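import Groth.Agent.L12.PushFree.Twists
import Groth.Agent.L12.FlatZero.Core
import Groth.Agent.L17.BC.GenApply
import Groth.Agent.L17.BC.Bc0Apply
import Groth.Agent.L17.BC.Bc0
import Groth.Agent.L20.DescLocus.Mate
import Groth.Agent.L29.DCoh.PullTensor

/-!
# Base change of regular bundles on projective space
-/

set_option autoImplicit false
set_option linter.style.haveILetI false
set_option linter.unusedSectionVars false
set_option backward.isDefEq.respectTransparency false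
set_option backward.isDefEq.respectTransparency.types false

universe u

open CategoryTheory CategoryTheory.Limits AlgebraicGeometry TopologicalSpace Opposite
open scoped TensorProduct

attribute [local instance] HasDerivedCategory.standard

noncomputable section

namespace Groth.L12.PushFree

open Groth.L01.FlatCx (Coker)
open Groth.L17.BC
open Groth.L00.Tensor (tensorIso tensorComm)

/-- Vanishing of the higher direct images from a degree on gives the vanishing on the fibres from that degree on. -/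
theorem subsingleton_fiberH_of_vanish_ge {X Y : Scheme.{u}} (f : X ⟶ Y) [IsProper f] [IsLocallyNoetherian Y]
    [HasInjectiveResolutions X.Modules] {F : X.Modules} (hF : Coh.IsCoh F) (hfl : FlatMod.IsFlatOver f F)
    {i : ℕ} (hi : 0 < i) (hR : ∀ q, i ≤ q → IsZero ((Coh.Rpush f q).obj F)) (y : Y) :
    Subsingleton (CohIII.fiberH f F y i) := by
  obtain ⟨_, ⟨V, hV, rfl⟩, hyV, -⟩ := Y.isBasis_affineOpens.exists_subset_of_mem_open (Set.mem_univ y) isOpen_univ
  haveI : IsNoetherianRing Γ(Y, V) := IsLocallyNoetherian.component_noetherian ⟨V, hV⟩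
  obtain ⟨m⟩ := nonempty_local f hV F hF hfl
  have hfree : ∀ j : ℕ, i ≤ j → Crit.FreeC m.L ((j : ℤ) - 1) (hV.primeIdealOf ⟨y, hyV⟩) := fun j hj => by
    haveI := Crit.flat_coker_of_flat_homology_above m.L m.finiteFlat m.top (i : ℤ) m.isZero_above (fun k hk => by
      obtain ⟨k', rfl⟩ : ∃ k' : ℕ, k = (k' : ℤ) := ⟨k.toNat, by omega⟩
      haveI := m.subsingleton_homology_of_isZero f k' (hR k' (by omega))
      infer_instance) (j : ℤ) (by omega)
    haveI := (m.finiteFree (j : ℤ)).1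
    haveI := (m.finiteFree (j : ℤ)).2
    haveI : Module.FinitePresentation Γ(Y, V) (Coker m.L ((j : ℤ) - 1) j) := Module.finitePresentation_of_finite _ _
    show hV.primeIdealOf ⟨y, hyV⟩ ∈ Module.freeLocus _ (Coker m.L ((j : ℤ) - 1) ((j : ℤ) - 1 + 1))
    rw [sub_add_cancel]
    exact Module.freeLocus_eq_univ.ge (Set.mem_univ _)
  have h₁ := hfree i le_rfl
  have h₂ := hfree (i + 1) (by omega)
  rw [show ((i + 1 : ℕ) : ℤ) - 1 = (i : ℤ) by push_cast; ring] at h₂
  have h := (Crit.mem_freeLocus_homology m.L m.finiteFlat (hV.primeIdealOf ⟨y, hyV⟩) (j := (i : ℤ) - 1) h₁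
    (by rwa [sub_add_cancel])).2
  rw [sub_add_cancel] at h
  haveI := m.subsingleton_homology_of_isZero f i (hR i le_rfl)
  haveI := m.finite_fiberH y hyV i
  have h0 : CohIII.fiberRank f F i y = 0 := by
    rw [m.fiberRank_eq y hyV i, h]
    exact Module.finrank_zero_of_subsingleton
  exact (Module.finrank_zero_iff (R := Y.residueField y)).1 h0

/-- Fibre vanishing survives base change. -/
theorem subsingleton_fiberH_pullback {X Y X₀ Y₀ : Scheme.{u}} {g : X ⟶ X₀} {f : X ⟶ Y} {f₀ : X₀ ⟶ Y₀}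
    {b : Y ⟶ Y₀} [IsSeparated f₀] [QuasiCompact f₀] (sq : IsPullback g f f₀ b) (F : X₀.Modules) [Coh.IsQCoh F]
    (y : Y) (q : ℕ) (h : Subsingleton (CohIII.fiberH f₀ F (b y) q)) :
    Subsingleton (CohIII.fiberH f ((Scheme.Modules.pullback g).obj F) y q) := by
  let K := Y.residueField y
  let K₀ := Y₀.residueField (b y)
  letI : Algebra K₀ K := (b.residueFieldMap y).hom.toAlgebra
  let f₁ := f₀.fiberToSpecResidueField (b y)
  haveI : IsSeparated f₁ := MorphismProperty.pullback_snd _ _ inferInstance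
  haveI : QuasiCompact f₁ := MorphismProperty.pullback_snd _ _ inferInstance
  have hb : Spec.map (b.residueFieldMap y) ≫ Y₀.fromSpecResidueField (b y) = Y.fromSpecResidueField y ≫ b :=
    Scheme.Hom.SpecMap_residueFieldMap_fromSpecResidueField b y
  have sq₀ : IsPullback (f₀.fiberι (b y)) f₁ f₀ (Y₀.fromSpecResidueField (b y)) := IsPullback.of_hasPullback _ _
  have sqF : IsPullback (f.fiberι y) (f.fiberToSpecResidueField y) f (Y.fromSpecResidueField y) :=
    IsPullback.of_hasPullback _ _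
  let j := sq₀.lift (f.fiberι y ≫ g) (f.fiberToSpecResidueField y ≫ Spec.map (b.residueFieldMap y)) (by
    rw [Category.assoc, Category.assoc, hb, sq.w, f.fiber_fac_assoc])
  have hj : j ≫ f₀.fiberι (b y) = f.fiberι y ≫ g := sq₀.lift_fst _ _ _
  have sq₁ : IsPullback j (f.fiberToSpecResidueField y) f₁ (Spec.map (CommRingCat.ofHom (algebraMap K₀ K))) := by
    refine IsPullback.of_right (h₁₂ := f₀.fiberι (b y)) ?_ (sq₀.lift_snd _ _ _) sq₀
    rw [sq₀.lift_fst]
    exact hb.symm ▸ (sqF.paste_horiz sq)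
  haveI : Coh.IsQCoh (CohIII.fiberMod f₀ F (b y)) := Groth.L16.AffineBC.isQCoh_pullback _ F
  letI : Module K₀ (Coh.HH (f₀.fiber (b y)) (CohIII.fiberMod f₀ F (b y)) q) :=
    Module.compHom _ (Coh.toGlobal (A := K₀) f₁)
  obtain ⟨e⟩ := Groth.L16.Rees.exists_flat_bc_equiv (A := K₀) (B := K) f₁ (f.fiberToSpecResidueField y) j sq₁
    (CohIII.fiberMod f₀ F (b y)) q
  haveI : Subsingleton (Coh.HH (f₀.fiber (b y)) (CohIII.fiberMod f₀ F (b y)) q) := h
  haveI : Subsingleton ((K : Type u) ⊗[K₀] Coh.HH (f₀.fiber (b y)) (CohIII.fiberMod f₀ F (b y)) q) :=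
    subsingleton_of_forall_eq 0 fun t => by
      induction t using TensorProduct.induction_on with
      | zero => rfl
      | add a b ha hb => rw [ha, hb, add_zero]
      | tmul a x => rw [Subsingleton.elim x 0, TensorProduct.tmul_zero]
  have h' : Subsingleton (Coh.HH (f.fiber y) ((Scheme.Modules.pullback j).obj
      (CohIII.fiberMod f₀ F (b y))) q) := e.symm.toEquiv.subsingleton
  let w : (Scheme.Modules.pullback j).obj (CohIII.fiberMod f₀ F (b y)) ≅
      CohIII.fiberMod f ((Scheme.Modules.pullback g).obj F) y :=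
    (Scheme.Modules.pullbackComp j (f₀.fiberι (b y))).app F ≪≫ (Scheme.Modules.pullbackCongr hj).app F ≪≫
      ((Scheme.Modules.pullbackComp (f.fiberι y) g).app F).symm
  exact (Groth.L17.BC.HHequiv w q).toEquiv.subsingleton_congr.1 h'

section Proj

variable (n : ℕ) {Y Y₁ : Scheme.{u}} (φ : Y₁ ⟶ Y)

theorem isPullback_projSpaceMap : IsPullback (KRR.projSpaceMap n φ) (KRR.pr n Y₁) (KRR.pr n Y) φ := by
  have e : φ ≫ specULiftZIsTerminal.from Y = specULiftZIsTerminal.from Y₁ := specULiftZIsTerminal.hom_ext _ _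
  refine IsPullback.of_right ?_ (pullback.lift_snd _ _ _)
    (IsPullback.of_hasPullback (CohB1.ProjSpace.toSpec n (ULift.{u} ℤ)) (specULiftZIsTerminal.from Y))
  show IsPullback (KRR.projSpaceMap n φ ≫ pullback.fst _ _) _ _ _
  rw [show KRR.projSpaceMap n φ ≫ pullback.fst _ _ = pullback.fst _ _ from
    (pullback.lift_fst _ _ _).trans (Category.comp_id _), e]
  exact IsPullback.of_hasPullback _ _

theorem nonempty_pullback_twistOver (d : ℤ) :
    Nonempty ((Scheme.Modules.pullback (KRR.projSpaceMap n φ)).obj (Twist.twistOver n Y d) ≅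
      Twist.twistOver n Y₁ d) := by
  have e : KRR.projSpaceMap n φ ≫ Groth.L22.Reg.toZ n Y = Groth.L22.Reg.toZ n Y₁ :=
    (pullback.lift_fst _ _ _).trans (Category.comp_id _)
  exact ⟨(Scheme.Modules.pullbackComp (KRR.projSpaceMap n φ) (Groth.L22.Reg.toZ n Y)).app _ ≪≫
    (Scheme.Modules.pullbackCongr e).app _⟩

theorem nonempty_pullback_twF (d : ℤ) (F : (KRR.PY n Y).Modules) :
    Nonempty ((Scheme.Modules.pullback (KRR.projSpaceMap n φ)).obj (KRR.twF n Y d F) ≅
      KRR.twF n Y₁ d ((Scheme.Modules.pullback (KRR.projSpaceMap n φ)).obj F)) := by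
  obtain ⟨t⟩ := nonempty_pullback_twistOver n φ d
  obtain ⟨e⟩ := Groth.L22.Reg.nonempty_twF_iso n Y d F
  obtain ⟨e₁⟩ := Groth.L22.Reg.nonempty_twF_iso n Y₁ d ((Scheme.Modules.pullback (KRR.projSpaceMap n φ)).obj F)
  exact ⟨(Scheme.Modules.pullback _).mapIso e ≪≫ (Groth.L29.DC.PullTensor.pullTensor _ _ _).symm ≪≫
    tensorIso t (Iso.refl _) ≪≫ e₁.symm⟩

theorem isFinLocFree_twF (d : ℤ) {F : (KRR.PY n Y).Modules} (hF : FlatMod.IsFinLocFree F) :
    FlatMod.IsFinLocFree (KRR.twF n Y d F) := by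
  obtain ⟨e⟩ := Groth.L22.Reg.nonempty_twF_iso n Y d F
  exact Groth.L29.LocFree.of_iso e.symm (Groth.L29.DC.isFinLocFree_tensor
    (Groth.L16.Existence.isFinLocFree_of_isInvertible (Groth.L17.Strat.isInvertible_twistOver n Y d)) hF)

variable [IsNoetherian Y] [IsNoetherian Y₁] {F : (KRR.PY n Y).Modules} (hF : FlatMod.IsFinLocFree F)
  (hreg : KRR.IsRegSheaf n Y F)

include hF hreg in
theorem isRegSheaf_pullback : KRR.IsRegSheaf n Y₁ ((Scheme.Modules.pullback (KRR.projSpaceMap n φ)).obj F) :=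
  fun i hi => by
  haveI : IsProper (KRR.pr n Y) := Groth.L16.ProjSpace.isProper_toBase n Y
  haveI : Flat (KRR.pr n Y) := Groth.L16.ProjSpace.flat_toBase n Y
  haveI : IsProper (KRR.pr n Y₁) := Groth.L16.ProjSpace.isProper_toBase n Y₁
  haveI : Flat (KRR.pr n Y₁) := Groth.L16.ProjSpace.flat_toBase n Y₁
  haveI := Groth.L17.PushQCoh.hasInjectiveResolutions (KRR.PY n Y)
  haveI := Groth.L17.PushQCoh.hasInjectiveResolutions (KRR.PY n Y₁)
  let G := KRR.twF n Y (-(i : ℤ)) F
  have hG := isFinLocFree_twF n (-(i : ℤ)) hF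
  have hvan : ∀ q, i ≤ q → IsZero ((Coh.Rpush (KRR.pr n Y) q).obj G) := fun q hq => by
    obtain ⟨e⟩ := Groth.L17.nonempty_toAb_Rpush_iso (KRR.pr n Y) G q
    refine Groth.L17.PushQCoh.isZero_of_toAb (IsZero.of_iso ?_ e)
    obtain ⟨d, rfl⟩ := Nat.exists_eq_add_of_le hq
    have h := Groth.L22.Reg.vt_propagate (Groth.L22.Reg.isRegSheaf_iff.1 hreg) d (i + d) (by omega)
    exact Groth.L22.Reg.vt_zero_iff.1
      ((Groth.L22.Reg.vt_twF (show -(i : ℤ) + 0 = -((i + d : ℕ) : ℤ) + d by omega)).2 h)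
  have hfl := Groth.L29.DC.RelTor.isFlatOver_of_isFlat (KRR.pr n Y) (Groth.L29.DC.isFlat_of_isFinLocFree hG)
  haveI : Coh.IsQCoh G := (Groth.L16.NegPow.isCoh_of_isFinLocFree hG).1
  have hfib : ∀ y, Subsingleton (CohIII.fiberH (KRR.pr n Y₁)
      ((Scheme.Modules.pullback (KRR.projSpaceMap n φ)).obj G) y i) := fun y =>
    subsingleton_fiberH_pullback (isPullback_projSpaceMap n φ) G y i
      (subsingleton_fiberH_of_vanish_ge (KRR.pr n Y) (Groth.L16.NegPow.isCoh_of_isFinLocFree hG) hfl hi hvan _)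
  let G₁ := (Scheme.Modules.pullback (KRR.projSpaceMap n φ)).obj G
  have hG₁ : FlatMod.IsFinLocFree G₁ := Groth.L29.LocFree.pullback _ hG
  haveI : Coh.IsQCoh G₁ := (Groth.L16.NegPow.isCoh_of_isFinLocFree hG₁).1
  have hz : IsZero ((Coh.Rpush (KRR.pr n Y₁) i).obj G₁) := by
    choose U hU hzU using fun y => exists_isZero_of_vanishing (KRR.pr n Y₁) G₁
      (Groth.L18.LFP.isFP_of_isFinLocFree _ hG₁)
      (Groth.L29.DC.RelTor.isFlatOver_of_isFlat _ (Groth.L29.DC.isFlat_of_isFinLocFree hG₁)) y i (hfib y)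
    exact Groth.L21.Mod.isZero_of_restrict (fun y => (U y).ι) (fun y => ⟨y, ⟨y, hU y⟩, rfl⟩) _ hzU
  obtain ⟨e⟩ := Groth.L17.nonempty_toAb_Rpush_iso (KRR.pr n Y₁) G₁ i
  have hz' : Groth.L22.Reg.VPush (KRR.pr n Y₁) i G₁ :=
    ((Groth.L17.toAbShF Y₁).map_isZero hz).of_iso e.symm
  obtain ⟨t⟩ := nonempty_pullback_twF n φ (-(i : ℤ)) F
  exact (Groth.L22.Reg.isVan_vpush (KRR.pr n Y₁)).iso t i hz'

include hF hreg in
theorem isIso_bcMap (hsq : KRR.projSpaceMap n φ ≫ KRR.pr n Y = KRR.pr n Y₁ ≫ φ) :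
    IsIso (KRR.bcMap n φ hsq F) := by
  haveI : IsProper (KRR.pr n Y) := Groth.L16.ProjSpace.isProper_toBase n Y
  haveI : Flat (KRR.pr n Y) := Groth.L16.ProjSpace.flat_toBase n Y
  haveI := Groth.L17.PushQCoh.hasInjectiveResolutions (KRR.PY n Y)
  haveI : LocallyOfFinitePresentation (KRR.pr n Y) := by infer_instance
  haveI : Coh.IsQCoh F := (Groth.L16.NegPow.isCoh_of_isFinLocFree hF).1
  have hR : ∀ q, 1 ≤ q → IsZero ((Coh.Rpush (KRR.pr n Y) q).obj F) := fun q hq => by
    obtain ⟨e⟩ := Groth.L17.nonempty_toAb_Rpush_iso (KRR.pr n Y) F q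
    exact Groth.L17.PushQCoh.isZero_of_toAb ((Groth.L22.Reg.vpush_of_regular hreg q hq).of_iso e)
  have hfl := Groth.L29.DC.RelTor.isFlatOver_of_isFlat (KRR.pr n Y) (Groth.L29.DC.isFlat_of_isFinLocFree hF)
  have hsplit := Groth.L17.BC.Classes.forall_split0_of_vanishing (KRR.pr n Y) F
    (Groth.L18.LFP.isFP_of_isFinLocFree _ hF) hfl ⊤ fun y _ =>
      subsingleton_fiberH_of_vanish_ge (KRR.pr n Y) (Groth.L16.NegPow.isCoh_of_isFinLocFree hF) hfl one_pos hR y
  haveI := Groth.L17.BC.Classes.isIso_bc0 (f := KRR.pr n Y) (g := φ) (f' := KRR.pr n Y₁)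
    (g' := KRR.projSpaceMap n φ) (F := F) (U := ⊤) (isPullback_projSpaceMap n φ) (fun _ => trivial) hsplit
  have e : KRR.bcMap n φ hsq F =
      CohBC.bc0 (KRR.pr n Y) φ (KRR.pr n Y₁) (KRR.projSpaceMap n φ) hsq F := by
    rw [Groth.L20.DescLocus.bc0_eq]
    show Adjunction.homEquiv _ _ _ _ = _
    congr 1
  rw [e]
  assumption

end Proj

end Groth.L12.PushFree
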