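import Groth.Agent.L12.PushFree.Twists
import Groth.Agent.L12.FlatZero.Glob
import Groth.Agent.L16.ProjSpace.RelTwist
import Groth.Agent.L16.ProjSpace.Sections
import Groth.Agent.L29.K.Sub

/-!
# Functions on projective space over a base; the structure sheaf is regular
-/

set_option autoImplicit false
set_option backward.isDefEq.respectTransparency false
set_option backward.isDefEq.respectTransparency.types false

universe u

open CategoryTheory CategoryTheory.Limits AlgebraicGeometry TopologicalSpace Opposite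

noncomputable section

namespace Groth.L12.PushFree

open Groth.L20.PnPic (toPt isPullback_toPt)
open Groth.L17.BC (fV)
open Groth.L17.BC.Classes (isPullback_fV)

theorem isIso_pr_app (n : ℕ) (Y : Scheme.{u}) (U : Y.Opens) : IsIso ((KRR.pr n Y).app U) := by
  haveI : IsProper (KRR.pr n Y) := Groth.L16.ProjSpace.isProper_toBase n Y
  refine Groth.L12.FlatZero.isIso_of_cover (KRR.pr n Y) (V := ⊤) (fun y _ => ?_) le_top
  obtain ⟨_, ⟨W, hW, rfl⟩, hyW, -⟩ := Y.isBasis_affineOpens.exists_subset_of_mem_open (Set.mem_univ y) isOpen_univ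
  replace hW : IsAffineOpen W := hW
  refine ⟨W, hW, hyW, le_top, ?_⟩
  let f := KRR.pr n Y
  let e := (isPullback_fV f hW).isoIsPullback _ _ (isPullback_toPt n hW.fromSpec)
  have he : e.hom ≫ CohB1.ProjSpace.toSpec n Γ(Y, W) = fV f hW := IsPullback.isoIsPullback_hom_snd _ _ _ _
  haveI := Groth.L16.ProjSpace.isIso_toSpec_appTop n Γ(Y, W)
  haveI : IsIso (fV f hW).appTop := by
    rw [← he, Scheme.Hom.comp_appTop]
    infer_instance
  have hb : Function.Bijective (Coh.toGlobal (A := Γ(Y, W)) (fV f hW)) := by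
    haveI : IsIso ((Scheme.ΓSpecIso Γ(Y, W)).inv ≫ (fV f hW).appTop) := inferInstance
    exact ConcreteCategory.bijective_of_isIso _
  have hres : ∀ a, Coh.toGlobal (A := Γ(Y, W)) (fV f hW) a =
      (CohB1.ProjSpaceOver n Y).presheaf.map (eqToHom (Groth.L12.FlatZero.image_top_eq f W)).op (f.app W a) :=
    Groth.L12.GenusZero.toGlobal_fV f hW
  refine (Function.Bijective.of_comp_iff' (Groth.L12.FlatZero.bijective_res (Groth.L12.FlatZero.image_top_eq f W)) _).1 ?_
  have : (Coh.toGlobal (A := Γ(Y, W)) (fV f hW) : _ → _) = _ := funext hres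
  rw [this] at hb
  exact hb

theorem nonempty_push_structure_iso (n : ℕ) (Y : Scheme.{u}) :
    Nonempty (Coh.structureModule Y ≅ (Scheme.Modules.pushforward (KRR.pr n Y)).obj (Coh.structureModule (KRR.PY n Y))) := by
  haveI : IsIso (ClSub.unitToPush (KRR.pr n Y)) := by
    rw [Scheme.Modules.Hom.isIso_iff_isIso_app]
    intro U
    haveI := isIso_pr_app n Y U
    exact (ConcreteCategory.isIso_iff_bijective _).2 (ConcreteCategory.bijective_of_isIso ((KRR.pr n Y).app U) :)
  exact ⟨asIso (ClSub.unitToPush (KRR.pr n Y))⟩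

theorem isRegSheaf_structure (n : ℕ) (Y : Scheme.{u}) :
    KRR.IsRegSheaf n Y (Coh.structureModule (KRR.PY n Y)) := fun i hi => by
  obtain ⟨e⟩ := Groth.L22.Reg.nonempty_twF_iso n Y (-(i : ℤ)) (Coh.structureModule (KRR.PY n Y))
  refine (Groth.L22.Reg.isVan_vpush (KRR.pr n Y)).iso (e ≪≫ Groth.L00.Tensor.tensorUnitRight _).symm i ?_
  exact Groth.L16.ProjSpace.isZero_RpushAb_twistOver n (-(i : ℤ)) i fun R _ =>
    Groth.L16.ProjSpace.subsingleton_HH_twist n R (-(i : ℤ)) i (by omega) (by omega)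

theorem cl_iso {X : Scheme.{u}} {M N : X.Modules} (e : M ≅ N) (hM : FlatMod.IsFinLocFree M) :
    KRR.cl X M = KRR.cl X N :=
  haveI : ObjectProperty.IsClosedUnderIsomorphisms (KRR.vbP X) := ⟨fun i h => Groth.L29.LocFree.of_iso i h⟩
  Groth.L29.KSub.clSub_iso _ e (isZero_zero _) (Groth.L29.LocFree.of_isZero (isZero_zero _)) hM

end Groth.L12.PushFree
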