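import Groth.Agent.L12.PushFree.Basic
import Groth.Agent.L17.BC.FlatCrit
import Groth.Agent.L18.VeryAmpleOver

/-!
# Eventual local freeness of direct images of twists on projective space
-/

set_option autoImplicit false
set_option backward.isDefEq.respectTransparency false
set_option backward.isDefEq.respectTransparency.types false

universe u

open CategoryTheory CategoryTheory.Limits AlgebraicGeometry

attribute [local instance] HasDerivedCategory.standard

noncomputable section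

namespace Groth.L12.PushFree

open Groth.L22.Reg
open Groth.L00.Tensor (tensorIso tensorComm)

theorem nonempty_OT_one_pow (n : ℕ) (T : Scheme.{u}) : ∀ j : ℕ,
    Nonempty (CohB1.tensorPow (Twist.twistOver n T 1) j ≅ Twist.twistOver n T (j : ℤ))
  | 0 => by
    obtain ⟨e⟩ := nonempty_OT_zero n T
    exact ⟨e.symm⟩
  | j + 1 => by
    obtain ⟨e⟩ := nonempty_OT_one_pow n T j
    obtain ⟨e'⟩ := nonempty_OT_add n T (show (j : ℤ) + 1 = ((j + 1 : ℕ) : ℤ) by omega)
    exact ⟨tensorIso e (Iso.refl _) ≪≫ e'⟩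

theorem exists_finLocFree_twists (n : ℕ) (Y : Scheme.{u}) [IsNoetherian Y]
    {F : (KRR.PY n Y).Modules} (hF : FlatMod.IsFinLocFree F) :
    ∃ m₀ : ℕ, ∀ m : ℕ, m₀ ≤ m →
      FlatMod.IsFinLocFree ((Scheme.Modules.pushforward (KRR.pr n Y)).obj (KRR.twF n Y (m : ℤ) F)) := by
  haveI : IsProper (KRR.pr n Y) := Groth.L16.ProjSpace.isProper_toBase n Y
  haveI : Flat (KRR.pr n Y) := Groth.L16.ProjSpace.flat_toBase n Y
  obtain ⟨m₀, h⟩ := Groth.L17.BC.FlatCrit.exists_locFree_of_isFlatOver (KRR.pr n Y)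
    (Groth.L16.NegPow.isCoh_of_isFinLocFree hF) (Groth.L18.VeryAmpleOver.isRelAmple_twistOver n Y)
    (Groth.L17.Strat.isInvertible_twistOver n Y 1)
    (Groth.L29.DC.RelTor.isFlatOver_of_isFlat _ (Groth.L29.DC.isFlat_of_isFinLocFree hF))
  refine ⟨m₀, fun m hm => ?_⟩
  obtain ⟨e⟩ := nonempty_twF_iso n Y (m : ℤ) F
  obtain ⟨t⟩ := nonempty_OT_one_pow n Y m
  exact Groth.L29.LocFree.of_iso
    ((Scheme.Modules.pushforward (KRR.pr n Y)).mapIso (e ≪≫ tensorComm _ _ ≪≫ tensorIso (Iso.refl _) t.symm)).symm (h m hm)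

end Groth.L12.PushFree
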