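import Groth.Agent.L12.PushFree.KReg
import Groth.Agent.L17.PushQCoh

/-!
# The push-forward on `K₀` along the projection of projective space
-/

set_option autoImplicit false
set_option linter.style.haveILetI false
set_option linter.unusedSectionVars false
set_option backward.isDefEq.respectTransparency false
set_option backward.isDefEq.respectTransparency.types false

universe v u

open CategoryTheory CategoryTheory.Limits AlgebraicGeometry

attribute [local instance] HasDerivedCategory.standard

noncomputable section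

namespace Groth.L12.KReg

open Groth.L22.Reg
open Groth.L17 (toAbShF)

/-- Direct image is exact on a short exact sequence whose first term has no first higher direct image. -/
theorem shortExact_push {X Y : Scheme.{u}} (f : X ⟶ Y) {S : ShortComplex X.Modules} (hS : S.ShortExact)
    [(Scheme.Modules.pushforward f).Additive] (h : VPush f 1 S.X₁) :
    (S.map (Scheme.Modules.pushforward f)).ShortExact := by
  letI := HasDerivedCategory.standard (Sheaf (Opens.grothendieckTopology X) AddCommGrpCat.{u})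
  letI := HasDerivedCategory.standard (Sheaf (Opens.grothendieckTopology Y) AddCommGrpCat.{u})
  haveI : PreservesFiniteLimits (Coh.pushAb f) :=
    inferInstanceAs (PreservesFiniteLimits (TopCat.Sheaf.pushforward AddCommGrpCat.{u} f.base))
  haveI : (Scheme.Modules.pushforward f).IsRightAdjoint :=
    (Scheme.Modules.pullbackPushforwardAdjunction f).isRightAdjoint
  haveI : PreservesFiniteLimits (Scheme.Modules.pushforward f) := inferInstance
  haveI he : Epi (((Coh.pushAb f).rightDerived 0).map (S.map (toAbShF X)).g) :=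
    Groth.L00.RDerLES.epi_map_g (Coh.pushAb f) (shortExact_toAb hS) 0 h
  have hnat := (Coh.pushAb f).rightDerivedZeroIsoSelf.hom.naturality ((toAbShF X).map S.g)
  haveI : Epi (((Coh.pushAb f).rightDerived 0).map ((toAbShF X).map S.g) ≫
      (Coh.pushAb f).rightDerivedZeroIsoSelf.hom.app _) := @epi_comp _ _ _ _ _ _ he _ inferInstance
  haveI : Epi ((Coh.pushAb f).map ((toAbShF X).map S.g)) := by
    haveI : Epi ((Coh.pushAb f).rightDerivedZeroIsoSelf.hom.app _ ≫ (Coh.pushAb f).map ((toAbShF X).map S.g)) :=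
      hnat ▸ ‹Epi (((Coh.pushAb f).rightDerived 0).map ((toAbShF X).map S.g) ≫ _)›
    exact epi_of_epi ((Coh.pushAb f).rightDerivedZeroIsoSelf.hom.app _) _
  haveI : (toAbShF Y).Faithful := inferInstanceAs (SheafOfModules.toSheaf.{u} Y.ringCatSheaf).Faithful
  haveI : Epi ((Scheme.Modules.pushforward f).map S.g) := by
    haveI : Epi ((toAbShF Y).map ((Scheme.Modules.pushforward f).map S.g)) :=
      ‹Epi ((Coh.pushAb f).map ((toAbShF X).map S.g))›
    exact (toAbShF Y).epi_of_epi_map this
  haveI := hS.mono_f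
  exact { exact := hS.exact.map_of_mono_of_preservesKernel _ inferInstance inferInstance
          mono_f := inferInstanceAs (Mono ((Scheme.Modules.pushforward f).map S.f))
          epi_g := inferInstanceAs (Epi ((Scheme.Modules.pushforward f).map S.g)) }

variable (n : ℕ) (Y : Scheme.{u}) [IsNoetherian Y]

/-- The class of the direct image of a regular bundle. -/
def pushCls (M : (KRR.PY n Y).Modules) : SGA6.Kvb Y :=
  KRR.cl Y ((Scheme.Modules.pushforward (KRR.pr n Y)).obj M)

theorem pushCls_add (S : ShortComplex (KRR.PY n Y).Modules) (hS : S.ShortExact)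
    (h₁ : RegP n Y S.X₁) (h₂ : RegP n Y S.X₂) (h₃ : RegP n Y S.X₃) :
    pushCls n Y S.X₂ = pushCls n Y S.X₁ + pushCls n Y S.X₃ := by
  haveI := Groth.L17.PushQCoh.additive_push (KRR.pr n Y)
  exact Groth.L29.KSub.clSub_shortExact (KRR.vbP Y)
    (shortExact_push (KRR.pr n Y) hS (vpush_of_regular h₁.2 1 le_rfl))
    (Groth.L12.PushFree.isFinLocFree_push_regular n Y h₁.1 h₁.2)
    (Groth.L12.PushFree.isFinLocFree_push_regular n Y h₂.1 h₂.2)
    (Groth.L12.PushFree.isFinLocFree_push_regular n Y h₃.1 h₃.2)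

/-- The push-forward on `K₀` of regular bundles. -/
def pushReg : KZero.K0sub (RegP n Y) →+ SGA6.Kvb Y :=
  Groth.L29.KSub.lift (pushCls n Y) (pushCls_add n Y)

/-- The push-forward `K(ℙⁿ_Y) → K(Y)`. -/
def pushK : SGA6.Kvb (KRR.PY n Y) →+ SGA6.Kvb Y := (pushReg n Y).comp (invHom n Y)

theorem pushK_cl {F : (KRR.PY n Y).Modules} (hF : FlatMod.IsFinLocFree F) (hreg : KRR.IsRegSheaf n Y F) :
    pushK n Y (KRR.cl (KRR.PY n Y) F) = KRR.cl Y ((Scheme.Modules.pushforward (KRR.pr n Y)).obj F) := by
  rw [pushK, AddMonoidHom.comp_apply, invHom, Groth.L29.KSub.lift_clSub _ _ hF,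
    inv_eq (m := 0) (r_zero_iff.2 ⟨hF, hreg⟩)]
  exact Groth.L29.KSub.lift_clSub _ _ ⟨hF, hreg⟩

/-- Homomorphisms out of `K(ℙⁿ_Y)` agree when they agree on regular bundles. -/
theorem hom_ext_regular {G : Type*} [AddCommGroup G] {φ ψ : SGA6.Kvb (KRR.PY n Y) →+ G}
    (h : ∀ F : (KRR.PY n Y).Modules, FlatMod.IsFinLocFree F → KRR.IsRegSheaf n Y F →
      φ (KRR.cl (KRR.PY n Y) F) = ψ (KRR.cl (KRR.PY n Y) F)) : φ = ψ := by
  have hi : ∀ M, RegP n Y M → KRR.vbP (KRR.PY n Y) M := fun M hM => hM.1
  refine AddMonoidHom.ext fun x => ?_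
  obtain ⟨z, rfl⟩ := (bijective_mapSub hi).2 x
  refine DFunLike.congr_fun (Groth.L29.KSub.hom_ext (P := RegP n Y) (φ := φ.comp _) (ψ := ψ.comp _) fun F hF => ?_) z
  rw [AddMonoidHom.comp_apply, AddMonoidHom.comp_apply, mapSub_clSub hi hF]
  exact h F hF.1 hF.2

theorem existsUnique_isPushPr {KP : Type v} [CommRing KP] {KY : Type v} [CommRing KY]
    (φP : SGA6.Kvb (KRR.PY n Y) →+ KP) (hφ : Function.Bijective φP) (φY : SGA6.Kvb Y →+ KY) :
    ∃! g : KP →+ KY, KRR.IsPushPr n Y φP φY g := by
  let e := AddEquiv.ofBijective φP hφ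
  refine ⟨φY.comp ((pushK n Y).comp e.symm.toAddMonoidHom), fun F hF hreg => ?_, fun g hg => ?_⟩
  · show φY (pushK n Y (e.symm (φP (KRR.cl _ F)))) = _
    rw [show e.symm (φP (KRR.cl _ F)) = KRR.cl _ F from e.symm_apply_apply _, pushK_cl n Y hF hreg]
  · have h : g.comp φP = φY.comp (pushK n Y) := hom_ext_regular n Y fun F hF hreg => by
      rw [AddMonoidHom.comp_apply, AddMonoidHom.comp_apply, hg F hF hreg, pushK_cl n Y hF hreg]
    refine AddMonoidHom.ext fun x => ?_
    have := DFunLike.congr_fun h (e.symm x)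
    rw [AddMonoidHom.comp_apply, show φP (e.symm x) = x from e.apply_symm_apply x] at this
    exact this

end Groth.L12.KReg
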