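import Groth.Agent.L17.BC.AmpleFlat
import Groth.Agent.L16.NegPow.Gen
import Groth.Agent.L16.ProjSpace.Basic
import Groth.Agent.L17.ToAbRpush
import Groth.Agent.L22.Reg.Rel

/-!
# Direct images of locally free modules without higher cohomology are locally free
-/

set_option autoImplicit false
set_option backward.isDefEq.respectTransparency false
set_option backward.isDefEq.respectTransparency.types false

universe u

open CategoryTheory CategoryTheory.Limits AlgebraicGeometry

attribute [local instance] HasDerivedCategory.standard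

noncomputable section

namespace Groth.L12.PushFree

variable {X Y : Scheme.{u}}

/-- Locally free direct image, from vanishing of the higher direct images of abelian sheaves. -/
theorem isFinLocFree_push (f : X ⟶ Y) [IsProper f] [Flat f] [IsLocallyNoetherian Y] {F : X.Modules}
    (hF : FlatMod.IsFinLocFree F) (hR : ∀ i : ℕ, 0 < i → IsZero ((Coh.RpushAb f i).obj (Coh.toAb F))) :
    FlatMod.IsFinLocFree ((Scheme.Modules.pushforward f).obj F) := fun y => by
  haveI : HasInjectiveResolutions X.Modules := by infer_instance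
  have hR' : ∀ i : ℕ, 0 < i → IsZero ((Coh.Rpush f i).obj F) := fun i hi => by
    obtain ⟨e⟩ := Groth.L17.nonempty_toAb_Rpush_iso f F i
    exact Groth.L17.PushQCoh.isZero_of_toAb ((hR i hi).of_iso e)
  obtain ⟨U, hyU, h⟩ := Groth.L17.BC.exists_free_push_of_vanish f hR'
    (Groth.L16.NegPow.isCoh_of_isFinLocFree hF)
    (Groth.L29.DC.RelTor.isFlatOver_of_isFlat f (Groth.L29.DC.isFlat_of_isFinLocFree hF)) y
  exact ⟨U, _, hyU, h⟩

theorem isFinLocFree_push_regular (n : ℕ) (Y : Scheme.{u}) [IsLocallyNoetherian Y]
    {F : (KRR.PY n Y).Modules} (hF : FlatMod.IsFinLocFree F) (hreg : KRR.IsRegSheaf n Y F) :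
    FlatMod.IsFinLocFree ((Scheme.Modules.pushforward (KRR.pr n Y)).obj F) := by
  haveI : IsProper (KRR.pr n Y) := Groth.L16.ProjSpace.isProper_toBase n Y
  haveI : Flat (KRR.pr n Y) := Groth.L16.ProjSpace.flat_toBase n Y
  exact isFinLocFree_push (KRR.pr n Y) hF fun i hi => Groth.L22.Reg.vpush_of_regular hreg i hi

end Groth.L12.PushFree
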