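import Groth.Agent.L12.PushFree.KPush
import Groth.Agent.L12.PushFree.RegBC
import Groth.Agent.L29.DCoh.PCQCoh

/-!
# The direct image of `O(m)` along `ℙⁿ_Y → Y` on `K₀`
-/

set_option autoImplicit false
set_option linter.style.haveILetI false
set_option backward.isDefEq.respectTransparency false
set_option backward.isDefEq.respectTransparency.types false

universe u

open CategoryTheory CategoryTheory.Limits AlgebraicGeometry MvPolynomial

attribute [local instance] HasDerivedCategory.standard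
attribute [local instance] preservesBinaryBiproducts_of_preservesBinaryCoproducts

noncomputable section

namespace Groth.L12.PushFree

open Groth.L12.KosClass (Copies)
open Groth.L00.Tensor (tensorUnitRight)

theorem nonempty_forms_equiv (R : Type u) [CommRing R] (n m : ℕ) :
    Nonempty (↥(homogeneousSubmodule (Fin (n + 1)) R m) ≃ₗ[R] (Fin ((n + m).choose m) → R)) := by
  have hset : ∀ d : Fin (n + 1) →₀ ℕ, d.degree = m ↔ d ∈ Finset.univ.finsuppAntidiag m := fun d => by
    rw [Finset.mem_finsuppAntidiag, Finsupp.degree_eq_sum]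
    simp
  haveI : Fintype {d : Fin (n + 1) →₀ ℕ | d.degree = m} :=
    Fintype.ofFinset (Finset.univ.finsuppAntidiag m) fun d => (hset d).symm
  let b : Module.Basis {d : Fin (n + 1) →₀ ℕ | d.degree = m} R (homogeneousSubmodule (Fin (n + 1)) R m) :=
    (basisRestrictSupport R _).map
      (LinearEquiv.ofEq _ _ (homogeneousSubmodule_eq_finsupp_supported (σ := Fin (n + 1)) (R := R) m).symm)
  have hc : Fintype.card {d : Fin (n + 1) →₀ ℕ | d.degree = m} = (n + m).choose m := by
    rw [Fintype.card_eq_nat_card]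
    refine (Nat.subtype_card (Finset.univ.finsuppAntidiag m) fun d => (hset d).symm).trans ?_
    rw [Finset.card_finsuppAntidiag_nat_eq_choose]
    simp only [Finset.card_univ, Fintype.card_fin]
    rw [show n + 1 + m - 1 = n + m by omega]
  exact ⟨b.equivFun ≪≫ₗ LinearEquiv.funCongrLeft R R (Fintype.equivFinOfCardEq hc).symm⟩

theorem copies_tilde (R : CommRingCat.{u}) : ∀ N : ℕ,
    Copies (Coh.structureModule (Spec R)) N ((tilde.functor R).obj (ModuleCat.of R (Fin N → R)))
  | 0 => .zero ((tilde.functor R).map_isZero (ModuleCat.isZero_of_subsingleton _))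
  | N + 1 => by
    have := Copies.add (.one (M := (tilde.functor R).obj (ModuleCat.of R R)) tildeSelf) (copies_tilde R N)
      ((tilde.functor R).mapIso (LinearEquiv.toModuleIso
        (Fin.consLinearEquiv R (fun _ : Fin (N + 1) => (R : Type u))).symm ≪≫ (ModuleCat.biprodIsoProd (ModuleCat.of R R) (ModuleCat.of R (Fin N → R))).symm) ≪≫
        (tilde.functor R).mapBiprod _ _)
    rwa [Nat.add_comm 1 N] at this

theorem map_smul_of_intCast {R M M' : Type*} [CommRing R] [AddCommGroup M] [AddCommGroup M'] [Module R M]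
    [Module R M'] (hR : ∀ r : R, ∃ k : ℤ, (k : R) = r) (f : M →+ M') (r : R) (x : M) : f (r • x) = r • f x := by
  obtain ⟨k, rfl⟩ := hR r
  exact map_intCast_smul f R R k x

theorem _root_.Groth.L12.KosClass.Copies.pullback {X Y : Scheme.{u}} (f : X ⟶ Y) {A : Y.Modules} {N : ℕ} {M : Y.Modules}
    (h : Copies A N M) : Copies ((Scheme.Modules.pullback f).obj A) N ((Scheme.Modules.pullback f).obj M) := by
  induction h with
  | zero h => exact .zero ((Scheme.Modules.pullback f).map_isZero h)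
  | one i => exact .one ((Scheme.Modules.pullback f).mapIso i)
  | add _ _ i h h' => exact .add h h' ((Scheme.Modules.pullback f).mapIso i ≪≫ (Scheme.Modules.pullback f).mapBiprod _ _)

section IntBase

variable (n : ℕ)

/-- The integers in universe `u`. -/
abbrev ZR : CommRingCat.{u} := CommRingCat.of (ULift.{u} ℤ)

instance : IsNoetherianRing (ULift.{u} ℤ) :=
  isNoetherianRing_of_ringEquiv ℤ (ULift.ringEquiv (R := ℤ)).symm

/-- The sections of `O(m)` on `ℙⁿ` over the integers. -/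
theorem nonempty_sections_equiv (m : ℕ) :
    Nonempty (↥(homogeneousSubmodule (Fin (n + 1)) (ULift.{u} ℤ) m) ≃+
      Γ((Scheme.Modules.pushforward (KRR.pr n (Spec ZR.{u}))).obj (Twist.twistOver n (Spec ZR.{u}) (m : ℤ)), ⊤)) := by
  haveI : IsIso (specULiftZIsTerminal.from (Spec ZR.{u})) :=
    isIso_of_isTerminal specULiftZIsTerminal specULiftZIsTerminal _
  let q : KRR.PY n (Spec ZR.{u}) ⟶ CohB1.ProjSpace n (ULift.{u} ℤ) :=
    pullback.fst (CohB1.ProjSpace.toSpec n (ULift.{u} ℤ)) (specULiftZIsTerminal.from (Spec ZR.{u}))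
  haveI : IsIso q := inferInstanceAs (IsIso (pullback.fst _ _))
  let tw := Twist.twistProjSpace n (ULift.{u} ℤ) (m : ℤ)
  let e := (Scheme.Modules.restrictFunctorIsoPullback q).app tw
  have htop : q ''ᵁ ⊤ = ⊤ := by
    rw [Scheme.Hom.image_top_eq_opensRange, Scheme.Hom.opensRange_of_isIso]
  let e1 : Γ(tw, ⊤) ≅ Γ(Twist.twistOver n (Spec ZR.{u}) (m : ℤ), ⊤) :=
    tw.presheaf.mapIso (eqToIso htop).op ≪≫ asIso (e.hom.app ⊤)
  let Φ : ↥(homogeneousSubmodule (Fin (n + 1)) (ULift.{u} ℤ) m) →+ Γ(tw, ⊤) :=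
    { toFun := fun p => Groth.L16.ProjSpace.polyToSection n (ULift.{u} ℤ) m p
      map_zero' := Subtype.ext (funext fun x => Subtype.ext (Localization.mk_zero _))
      map_add' := fun p q => Subtype.ext (funext fun x => Subtype.ext (Localization.add_mk_self _ _ _).symm) }
  exact ⟨(AddEquiv.ofBijective Φ ⟨Groth.L16.ProjSpace.polyToSection_injective m,
    Groth.L16.ProjSpace.polyToSection_surjective m⟩).trans e1.addCommGroupIsoToAddEquiv⟩

theorem isRegSheaf_twF_structure (Y : Scheme.{u}) [IsNoetherian Y] (m : ℕ) :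
    FlatMod.IsFinLocFree (KRR.twF n Y (m : ℤ) (Coh.structureModule (KRR.PY n Y))) ∧
      KRR.IsRegSheaf n Y (KRR.twF n Y (m : ℤ) (Coh.structureModule (KRR.PY n Y))) :=
  Groth.L12.KReg.regP_tw ⟨Groth.L16.Existence.isFinLocFree_of_isInvertible (Groth.L18.Ample.isInvertible_structureModule _), isRegSheaf_structure n Y⟩ m

theorem copies_push_twist (m : ℕ) :
    Copies (Coh.structureModule (Spec ZR.{u})) ((n + m).choose m)
      ((Scheme.Modules.pushforward (KRR.pr n (Spec ZR.{u}))).obj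
        (KRR.twF n (Spec ZR.{u}) (m : ℤ) (Coh.structureModule (KRR.PY n (Spec ZR.{u}))))) := by
  obtain ⟨hvb, hreg⟩ := isRegSheaf_twF_structure n (Spec ZR.{u}) m
  obtain ⟨t⟩ := Groth.L22.Reg.nonempty_twF_iso n (Spec ZR.{u}) (m : ℤ) (Coh.structureModule (KRR.PY n (Spec ZR.{u})))
  let M := (Scheme.Modules.pushforward (KRR.pr n (Spec ZR.{u}))).obj (Twist.twistOver n (Spec ZR.{u}) (m : ℤ))
  let i := (Scheme.Modules.pushforward (KRR.pr n (Spec ZR.{u}))).mapIso (t ≪≫ tensorUnitRight _)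
  haveI : Coh.IsQCoh M := Groth.L29.DC.PCQCoh.isQCoh_of_isFinLocFree
    (Groth.L29.LocFree.of_iso i (isFinLocFree_push_regular n (Spec ZR.{u}) hvb hreg))
  obtain ⟨a⟩ := nonempty_sections_equiv n m
  obtain ⟨b⟩ := nonempty_forms_equiv (ULift.{u} ℤ) n m
  let l : ((moduleSpecΓFunctor (R := ZR.{u})).obj M : Type u) ≃+ (Fin ((n + m).choose m) → ULift.{u} ℤ) :=
    a.symm.trans b.toAddEquiv
  let L : ((moduleSpecΓFunctor (R := ZR.{u})).obj M : Type u) ≃ₗ[ULift.{u} ℤ] (Fin ((n + m).choose m) → ULift.{u} ℤ) :=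
    { l with map_smul' := fun r x => map_smul_of_intCast (R := ULift.{u} ℤ) (fun r => ⟨r.down, ULift.ext _ _ (by simp)⟩) l.toAddMonoidHom r x }
  let j : (moduleSpecΓFunctor (R := ZR.{u})).obj M ≅ ModuleCat.of ZR.{u} (Fin ((n + m).choose m) → (ZR.{u} : Type u)) :=
    LinearEquiv.toModuleIso L
  haveI : IsIso (Scheme.Modules.fromTildeΓ (R := ZR.{u}) M) :=
    @Scheme.Modules.isIso_fromTildeΓ_of_isQuasicoherent _ M ‹Coh.IsQCoh M›
  let k : (tilde.functor ZR.{u}).obj ((moduleSpecΓFunctor (R := ZR.{u})).obj M) ≅ M :=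
    @asIso _ _ _ _ (Scheme.Modules.fromTildeΓ (R := ZR.{u}) M) this
  exact copiesOf (i ≪≫ k.symm ≪≫ (tilde.functor ZR.{u}).mapIso j) (copies_tilde ZR.{u} _)
where
  copiesOf {X : Scheme.{u}} {A M M' : X.Modules} (e : M ≅ M') : ∀ {N : ℕ}, Copies A N M' → Copies A N M
    | _, .zero h => .zero (h.of_iso e)
    | _, .one h => .one (e ≪≫ h)
    | _, .add h h' k => .add h h' (e ≪≫ k)

end IntBase

theorem copies_push_twist_over (n : ℕ) (Y : Scheme.{u}) [IsNoetherian Y] (m : ℕ) :
    Copies (Coh.structureModule Y) ((n + m).choose m)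
      ((Scheme.Modules.pushforward (KRR.pr n Y)).obj (KRR.twF n Y (m : ℤ) (Coh.structureModule (KRR.PY n Y)))) := by
  let φ : Y ⟶ Spec ZR.{u} := specULiftZIsTerminal.from Y
  obtain ⟨hvb, hreg⟩ := isRegSheaf_twF_structure n (Spec ZR.{u}) m
  have hsq := (isPullback_projSpaceMap n φ).w
  haveI := isIso_bcMap n φ hvb hreg hsq
  obtain ⟨t⟩ := nonempty_pullback_twF n φ (m : ℤ) (Coh.structureModule (KRR.PY n (Spec ZR.{u})))
  obtain ⟨a⟩ := Groth.L22.Reg.nonempty_twF_iso n Y (m : ℤ)
    ((Scheme.Modules.pullback (KRR.projSpaceMap n φ)).obj (Coh.structureModule (KRR.PY n (Spec ZR.{u}))))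
  obtain ⟨b⟩ := Groth.L22.Reg.nonempty_twF_iso n Y (m : ℤ) (Coh.structureModule (KRR.PY n Y))
  let w := asIso (KRR.bcMap n φ hsq (KRR.twF n (Spec ZR.{u}) (m : ℤ) (Coh.structureModule _))) ≪≫
    (Scheme.Modules.pushforward (KRR.pr n Y)).mapIso (t ≪≫ a ≪≫
      Groth.L00.Tensor.tensorIso (Iso.refl _) (Groth.L29.LocFree.pullbackUnitIso _) ≪≫ b.symm)
  exact copies_push_twist.copiesOf w.symm (((copies_push_twist n m).pullback φ).congr (Groth.L29.LocFree.pullbackUnitIso φ))

end Groth.L12.PushFree
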