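import Groth.Agent.L12.PushFree.KosClass
import Groth.Agent.L12.PushFree.ProjUnit
import Groth.Agent.L22.Reg.PullVan
import Groth.Agent.L29.DCoh.Amplitude
import Groth.Agent.L00.KFlatStalk
import Groth.Agent.L29.DCoh.TensorPerfect
import Groth.Prelude.Def_SGA6

/-!
# Regular bundles generate `K₀` of projective space over a Noetherian base
-/

set_option autoImplicit false
set_option linter.style.haveILetI false
set_option linter.unusedSectionVars false
set_option backward.isDefEq.respectTransparency false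
set_option backward.isDefEq.respectTransparency.types false

universe u

open CategoryTheory CategoryTheory.Limits AlgebraicGeometry TopologicalSpace

attribute [local instance] HasDerivedCategory.standard

noncomputable section

namespace Groth.L12.KReg

open Groth.L22.Reg
open Groth.L12.KosClass
open Groth.L00.Tensor (tensorIso tensorComm tensorAssoc tensorRightF)

variable (n : ℕ) (Y : Scheme.{u})

/-- Finite locally free and regular. -/
abbrev RegP : ObjectProperty (KRR.PY n Y).Modules :=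
  fun M => FlatMod.IsFinLocFree M ∧ KRR.IsRegSheaf n Y M

variable {n Y}

theorem vt_iso {q : ℕ} {d : ℤ} {A B : (KRR.PY n Y).Modules} (e : A ≅ B) (h : VT q d A) : VT q d B :=
  (isVan_vpush _).iso (tensorIso e (Iso.refl _)) q h

theorem isSumClosed_vb {X : Scheme.{u}} : IsSumClosed (KRR.vbP X) :=
  ⟨fun e h => Groth.L29.LocFree.of_iso e h, fun h => Groth.L29.LocFree.of_isZero h,
    fun h h' => Groth.L29.LocFree.biprod h h'⟩

theorem isSumClosed_regP : IsSumClosed (RegP n Y) where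
  iso e h := ⟨Groth.L29.LocFree.of_iso e h.1,
    isRegSheaf_iff.2 fun i hi => vt_iso e (isRegSheaf_iff.1 h.2 i hi)⟩
  zero h := ⟨Groth.L29.LocFree.of_isZero h, isRegSheaf_iff.2 fun i _ =>
    (isVan_vpush _).zero ((tensorRightF (Twist.twistOver n Y _)).map_isZero h) i⟩
  biprod {A B} h h' := ⟨Groth.L29.LocFree.biprod h.1 h'.1, isRegSheaf_iff.2 fun i hi =>
    (isVan_vpush _).iso (tensorBiprod _ A B) i
      ((isVan_vpush _).biprod i (isRegSheaf_iff.1 h.2 i hi) (isRegSheaf_iff.1 h'.2 i hi))⟩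

/-- A quotient of a regular module by a regular one is regular. -/
theorem regular_right {S : ShortComplex (KRR.PY n Y).Modules} (hS : S.ShortExact)
    (h₁ : KRR.IsRegSheaf n Y S.X₁) (h₂ : KRR.IsRegSheaf n Y S.X₂) : KRR.IsRegSheaf n Y S.X₃ :=
  isRegSheaf_iff.2 fun i hi => by
    refine (isVan_vpush _).right (shortExact_twistT hS (-(i : ℤ))) i (isRegSheaf_iff.1 h₂ i hi) ?_
    have h := vt_propagate (isRegSheaf_iff.1 h₁) 1 (i + 1) (by omega)
    rw [show -((i + 1 : ℕ) : ℤ) + ((1 : ℕ) : ℤ) = -(i : ℤ) by omega] at h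
    exact h

theorem isFinLocFree_O (d : ℤ) : FlatMod.IsFinLocFree (Twist.twistOver n Y d) :=
  Groth.L16.Existence.isFinLocFree_of_isInvertible (Groth.L17.Strat.isInvertible_twistOver n Y d)

theorem isFinLocFree_tw (d : ℤ) {F : (KRR.PY n Y).Modules} (hF : FlatMod.IsFinLocFree F) :
    FlatMod.IsFinLocFree (KRR.twF n Y d F) := by
  obtain ⟨e⟩ := nonempty_twF_iso n Y d F
  exact Groth.L29.LocFree.of_iso e.symm (Groth.L29.DC.isFinLocFree_tensor (isFinLocFree_O d) hF)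

theorem nonempty_tw_tensor (F : (KRR.PY n Y).Modules) {a c : ℤ} (j : ℕ) (h : a - j = c) :
    Nonempty (CohB1.tensorMod (KRR.twF n Y a F) (CohB1.tensorPow (Twist.twistOver n Y (-1)) j) ≅
      KRR.twF n Y c F) := by
  obtain ⟨e⟩ := nonempty_twF_iso n Y a F
  obtain ⟨e'⟩ := nonempty_twF_iso n Y c F
  obtain ⟨p⟩ := nonempty_OT_pow n Y j
  obtain ⟨q⟩ := nonempty_OT_add n Y (show a + -(j : ℤ) = c by omega)
  exact ⟨tensorIso (e ≪≫ tensorComm _ _) (Iso.refl _) ≪≫ tensorAssoc _ _ _ ≪≫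
    tensorIso (Iso.refl _) (tensorIso (Iso.refl _) p ≪≫ q) ≪≫ tensorComm _ _ ≪≫ e'.symm⟩

theorem nonempty_tw_zero (F : (KRR.PY n Y).Modules) : Nonempty (KRR.twF n Y 0 F ≅ F) := by
  obtain ⟨e⟩ := nonempty_twF_iso n Y 0 F
  obtain ⟨z⟩ := nonempty_OT_zero n Y
  exact ⟨e ≪≫ tensorComm _ _ ≪≫ tensorIso (Iso.refl F) z ≪≫ Groth.L00.Tensor.tensorUnitRight F⟩

/-- The Koszul complex expressing `F` through its twists. -/
def kosG (F : (KRR.PY n Y).Modules) : Aug (KRR.PY n Y) (KRR.twF n Y ((n + 1 : ℕ) : ℤ) F) :=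
  kos (KRR.twF n Y ((n + 1 : ℕ) : ℤ) F) (sigmasT n Y)

theorem length_sigmasT : (sigmasT n Y).length = n + 1 := by simp [sigmasT, sigmas]

theorem exactAt_kosG (F : (KRR.PY n Y).Modules) (x : KRR.PY n Y) : (kosG F).ExactAtPt x :=
  kos_exactAtPt x (Groth.L17.Strat.isInvertible_twistOver n Y (-1)) (generates_sigmasT n Y x)

theorem isZero_kosG (F : (KRR.PY n Y).Modules) (j : ℕ) (hj : n + 1 ≤ j) : IsZero ((kosG F).obj j) :=
  kos_isZero _ j (by rw [length_sigmasT]; exact hj)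

theorem copies_kosG (F : (KRR.PY n Y).Modules) (j : ℕ) :
    Copies (KRR.twF n Y ((n : ℤ) - j) F) ((n + 1).choose (j + 1)) ((kosG F).obj j) := by
  obtain ⟨e⟩ := nonempty_tw_tensor F (j + 1)
    (show ((n + 1 : ℕ) : ℤ) - ((j + 1 : ℕ) : ℤ) = (n : ℤ) - j by omega)
  have h := (copies_kos (F := KRR.twF n Y ((n + 1 : ℕ) : ℤ) F) (sigmasT n Y) j).congr e
  rwa [length_sigmasT] at h

attribute [local irreducible] kosG

theorem vb_kosG {F : (KRR.PY n Y).Modules} (hF : FlatMod.IsFinLocFree F) (j : ℕ) :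
    FlatMod.IsFinLocFree ((kosG F).obj j) :=
  ((copies_kosG F j).mem_and_cl isSumClosed_vb (isFinLocFree_tw _ hF)).1

theorem vb_Z {F : (KRR.PY n Y).Modules} (hF : FlatMod.IsFinLocFree F) (j : ℕ) :
    FlatMod.IsFinLocFree ((kosG F).Z j) := by
  induction j with
  | zero =>
    haveI : Epi ((kosG F).out 0) := (zSC₀_shortExact (exactAt_kosG F)).epi_g
    exact Groth.L29.DC.isFinLocFree_kernel_of_epi _ (vb_kosG hF 0) (isFinLocFree_tw _ hF)
  | succ j ih =>
    have hS := zSC_shortExact (exactAt_kosG F) j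
    haveI : Epi ((kosG F).π j) := hS.epi_g
    exact Groth.L29.LocFree.of_iso ((kernelIsKernel ((kosG F).π j)).conePointUniqueUpToIso hS.fIsKernel)
      (Groth.L29.DC.isFinLocFree_kernel_of_epi _ (vb_kosG hF (j + 1)) ih)

theorem regP_tw {F : (KRR.PY n Y).Modules} (hF : RegP n Y F) (m : ℕ) : RegP n Y (KRR.twF n Y (m : ℤ) F) :=
  ⟨isFinLocFree_tw _ hF.1, regular_twF hF.2 m⟩

theorem regP_kosG {F : (KRR.PY n Y).Modules} (hF : RegP n Y F) (j : ℕ) : RegP n Y ((kosG F).obj j) := by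
  rcases Nat.lt_or_ge j (n + 1) with hj | hj
  · refine ((copies_kosG F j).mem_and_cl isSumClosed_regP ?_).1
    rw [show (n : ℤ) - j = ((n - j : ℕ) : ℤ) by omega]
    exact regP_tw hF _
  · exact isSumClosed_regP.zero (isZero_kosG F j hj)

theorem regP_Z {F : (KRR.PY n Y).Modules} (hF : RegP n Y F) (j : ℕ) : RegP n Y ((kosG F).Z j) := by
  obtain ⟨i, hi⟩ : ∃ i, n + 1 ≤ j + i := ⟨n + 1, by omega⟩
  induction i generalizing j with
  | zero => exact isSumClosed_regP.zero (isZero_Z (isZero_kosG F j (by omega)))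
  | succ i ih =>
    have h₁ : KRR.IsRegSheaf n Y ((kosG F).Z (j + 1)) := (ih (j + 1) (by omega)).2
    have h₂ : KRR.IsRegSheaf n Y ((kosG F).obj (j + 1)) := (regP_kosG hF (j + 1)).2
    have hS : ((kosG F).zSC j).ShortExact := zSC_shortExact (exactAt_kosG F) j
    have h₃ : KRR.IsRegSheaf n Y ((kosG F).Z j) :=
      regular_right (n := n) (Y := Y) (S := (kosG F).zSC j) hS h₁ h₂
    exact ⟨vb_Z hF.1 j, h₃⟩

section Op

variable {G : Type*} [AddCommGroup G]

/-- The operator expressing a class through the classes of the twists. -/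
def T (h : (KRR.PY n Y).Modules → G) (F : (KRR.PY n Y).Modules) : G :=
  (-1 : ℤ) ^ n • (h (KRR.twF n Y ((n + 1 : ℕ) : ℤ) F) -
    ∑ j ∈ Finset.range n, (-1 : ℤ) ^ j • ((n + 1).choose (j + 1) • h (KRR.twF n Y ((n : ℤ) - j) F)))

theorem T_congr {h h' : (KRR.PY n Y).Modules → G} (F : (KRR.PY n Y).Modules)
    (H : ∀ k : ℕ, 1 ≤ k → h (KRR.twF n Y (k : ℤ) F) = h' (KRR.twF n Y (k : ℤ) F)) : T h F = T h' F := by
  have H' : ∀ j ∈ Finset.range n, h (KRR.twF n Y ((n : ℤ) - j) F) = h' (KRR.twF n Y ((n : ℤ) - j) F) := fun j hj => by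
    rw [Finset.mem_range] at hj
    rw [show (n : ℤ) - j = ((n - j : ℕ) : ℤ) by omega]
    exact H _ (by omega)
  rw [T, T, H (n + 1) (by omega), Finset.sum_congr rfl fun j hj => by rw [H' j hj]]

theorem T_add {h : (KRR.PY n Y).Modules → G} {A B C : (KRR.PY n Y).Modules}
    (H : ∀ k : ℕ, 1 ≤ k → h (KRR.twF n Y (k : ℤ) B) = h (KRR.twF n Y (k : ℤ) A) + h (KRR.twF n Y (k : ℤ) C)) :
    T h B = T h A + T h C := by
  rw [T, T, T, ← smul_add]
  congr 1
  rw [H (n + 1) (by omega), Finset.sum_congr rfl fun (j : ℕ) (hj : j ∈ Finset.range n) => show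
      (-1 : ℤ) ^ j • ((n + 1).choose (j + 1) • h (KRR.twF n Y ((n : ℤ) - j) B)) =
        (-1 : ℤ) ^ j • ((n + 1).choose (j + 1) • h (KRR.twF n Y ((n : ℤ) - j) A)) +
          (-1 : ℤ) ^ j • ((n + 1).choose (j + 1) • h (KRR.twF n Y ((n : ℤ) - j) C)) by
    rw [Finset.mem_range] at hj
    rw [show (n : ℤ) - j = ((n - j : ℕ) : ℤ) by omega, H _ (by omega), smul_add, smul_add],
    Finset.sum_add_distrib]
  abel

theorem map_T {G' : Type*} [AddCommGroup G'] (i : G →+ G') (h : (KRR.PY n Y).Modules → G)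
    (F : (KRR.PY n Y).Modules) : i (T h F) = T (fun M => i (h M)) F := by
  simp only [T, map_zsmul, map_sub, map_sum, map_nsmul]

end Op

/-- The Koszul relation in `K₀` of a class of modules. -/
theorem cl_eq_T {P : ObjectProperty (KRR.PY n Y).Modules} (hP : IsSumClosed P) {F : (KRR.PY n Y).Modules}
    (hF : P F) (htw : ∀ k : ℕ, P (KRR.twF n Y (k : ℤ) F)) (hC : ∀ j, P ((kosG F).obj j))
    (hZ : ∀ j, P ((kosG F).Z j)) : KZero.clSub P F = T (KZero.clSub P) F := by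
  have hG := cl_aug hP (exactAt_kosG F) (isZero_kosG F) hC hZ (htw (n + 1))
  have hj : ∀ j ∈ Finset.range (n + 1), KZero.clSub P ((kosG F).obj j) =
      (n + 1).choose (j + 1) • KZero.clSub P (KRR.twF n Y ((n : ℤ) - j) F) := fun j hj => by
    rw [Finset.mem_range] at hj
    refine ((copies_kosG F j).mem_and_cl hP ?_).2
    rw [show (n : ℤ) - j = ((n - j : ℕ) : ℤ) by omega]
    exact htw _
  rw [Finset.sum_congr rfl fun j h => by rw [hj j h], Finset.sum_range_succ, Nat.choose_self, one_smul] at hG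
  obtain ⟨e⟩ := nonempty_tw_zero F
  have he : KZero.clSub P (KRR.twF n Y ((n : ℤ) - n) F) = KZero.clSub P F := by
    rw [sub_self]
    exact hP.cl_iso e (hP.iso e.symm hF)
  rw [he] at hG
  rw [T, hG, add_sub_cancel_left, smul_smul, ← pow_add, Even.neg_one_pow (Even.add_self n), one_smul]

/-- The inverse on classes: `psi m F` is meant for `F` with `F(m)` regular. -/
def psi : ℕ → (KRR.PY n Y).Modules → KZero.K0sub (RegP n Y)
  | 0 => KZero.clSub (RegP n Y)
  | m + 1 => T (psi m)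

/-- `F(m)` is a regular bundle. -/
def R (m : ℕ) (F : (KRR.PY n Y).Modules) : Prop :=
  FlatMod.IsFinLocFree F ∧ ∀ i : ℕ, 1 ≤ i → VT i ((m : ℤ) - i) F

theorem r_zero_iff {F : (KRR.PY n Y).Modules} : R 0 F ↔ RegP n Y F := by
  refine and_congr_right fun _ => ?_
  rw [isRegSheaf_iff]
  exact forall₂_congr fun i _ => by rw [Nat.cast_zero, zero_sub]

theorem R.regP {m : ℕ} {F : (KRR.PY n Y).Modules} (h : R m F) : RegP n Y (KRR.twF n Y (m : ℤ) F) :=
  ⟨isFinLocFree_tw _ h.1, isRegSheaf_iff.2 fun i hi =>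
    (vt_twF (show (m : ℤ) + -(i : ℤ) = (m : ℤ) - i by omega)).2 (h.2 i hi)⟩

theorem R.succ {m : ℕ} {F : (KRR.PY n Y).Modules} (h : R m F) (k : ℕ) : R (m + k) F := by
  refine ⟨h.1, fun i hi => ?_⟩
  have h' := vt_propagate (isRegSheaf_iff.1 h.regP.2) k i hi
  rw [vt_twF (show (m : ℤ) + (-(i : ℤ) + k) = ((m + k : ℕ) : ℤ) - i by omega)] at h'
  exact h'

theorem R.tw {m : ℕ} {F : (KRR.PY n Y).Modules} (h : R (m + 1) F) (k : ℕ) (hk : 1 ≤ k) :
    R m (KRR.twF n Y (k : ℤ) F) := by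
  refine ⟨isFinLocFree_tw _ h.1, fun i hi => ?_⟩
  obtain ⟨d, rfl⟩ := Nat.exists_eq_add_of_le hk
  rw [vt_twF (show ((1 + d : ℕ) : ℤ) + ((m : ℤ) - i) = ((m + 1 + d : ℕ) : ℤ) - i by omega)]
  exact (h.succ d).2 i hi

theorem psi_succ : ∀ (m : ℕ) {F : (KRR.PY n Y).Modules}, R m F → psi (m + 1) F = psi m F
  | 0, F, h => by
    have h0 := r_zero_iff.1 h
    exact (cl_eq_T isSumClosed_regP h0 (fun k => regP_tw h0 k) (regP_kosG h0) (regP_Z h0)).symm
  | m + 1, F, h => T_congr F fun k hk => psi_succ m (h.tw k hk)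

theorem psi_add_nat {m : ℕ} {F : (KRR.PY n Y).Modules} (h : R m F) : ∀ k : ℕ, psi (m + k) F = psi m F
  | 0 => rfl
  | k + 1 => (psi_succ (m + k) (h.succ k)).trans (psi_add_nat h k)

theorem shortExact_tw {S : ShortComplex (KRR.PY n Y).Modules} (hS : S.ShortExact) (d : ℤ) :
    (S.map ((DCoh.tensorBi (X := KRR.PY n Y)).obj (Twist.twistOver n Y d))).ShortExact := by
  refine ShortComplex.shortExact_of_iso ?_ (shortExact_twistT hS d)
  exact S.mapNatIso (NatIso.ofComponents (fun A => tensorComm A (Twist.twistOver n Y d))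
    fun f => Groth.L00.Stk.tensorComm_natural f (𝟙 _))

theorem psi_shortExact : ∀ (m : ℕ) {S : ShortComplex (KRR.PY n Y).Modules}, S.ShortExact →
    R m S.X₁ → R m S.X₂ → R m S.X₃ → psi m S.X₂ = psi m S.X₁ + psi m S.X₃
  | 0, S, hS, h₁, h₂, h₃ =>
    Groth.L29.KSub.clSub_shortExact _ hS (r_zero_iff.1 h₁) (r_zero_iff.1 h₂) (r_zero_iff.1 h₃)
  | m + 1, S, hS, h₁, h₂, h₃ => T_add fun k hk =>
    psi_shortExact m (shortExact_tw hS (k : ℤ)) (h₁.tw k hk) (h₂.tw k hk) (h₃.tw k hk)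

section Noeth

variable [IsNoetherian Y]

theorem vt_of_lt {F : (KRR.PY n Y).Modules} (hF : FlatMod.IsFinLocFree F) {q : ℕ} (hq : n < q) (d : ℤ) :
    VT q d F := by
  refine vpush_of_affines _ q fun W hW => ?_
  have hG : FlatMod.IsFinLocFree (CohB1.tensorMod F (Twist.twistOver n Y d)) :=
    Groth.L29.DC.isFinLocFree_tensor hF (isFinLocFree_O d)
  obtain ⟨e⟩ := nonempty_HU_affine (CohB1.tensorMod F (Twist.twistOver n Y d)) hW q
  haveI : Coh.IsQCoh ((Scheme.Modules.pullback (Groth.L20.PnPic.toPt n hW.fromSpec)).obj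
      (CohB1.tensorMod F (Twist.twistOver n Y d))) :=
    (Groth.L16.NegPow.isCoh_of_isFinLocFree (Groth.L29.LocFree.pullback _ hG)).1
  haveI := Groth.L16.ProjSpace.subsingleton_HH_of_lt n Γ(Y, W)
    ((Scheme.Modules.pullback (Groth.L20.PnPic.toPt n hW.fromSpec)).obj
      (CohB1.tensorMod F (Twist.twistOver n Y d))) q hq
  exact e.toEquiv.subsingleton

theorem exists_vt {F : (KRR.PY n Y).Modules} (hF : FlatMod.IsFinLocFree F) :
    ∃ N : ℕ, ∀ k, N ≤ k → ∀ q : ℕ, 1 ≤ q → VT q (k : ℤ) F := by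
  haveI : IsProper (KRR.pr n Y) := Groth.L16.ProjSpace.isProper_toBase n Y
  haveI := Groth.L17.PushQCoh.hasInjectiveResolutions (KRR.PY n Y)
  choose W hW hxW using fun y : Y => show ∃ W : Y.Opens, IsAffineOpen W ∧ y ∈ W by
    obtain ⟨_, ⟨W, hW, rfl⟩, hxW, -⟩ := Y.isBasis_affineOpens.exists_subset_of_mem_open (Set.mem_univ y) isOpen_univ
    exact ⟨W, hW, hxW⟩
  obtain ⟨t, ht⟩ := isCompact_univ.elim_finite_subcover (fun y : Y => (W y : Set Y)) (fun y => (W y).2)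
    (fun y _ => Set.mem_iUnion.2 ⟨y, hxW y⟩)
  choose m hm using fun i : t => Groth.L17.BC.FlatCrit.exists_isZero_Rpush_chart (KRR.pr n Y) (hW i.1)
    (Groth.L16.NegPow.isCoh_of_isFinLocFree hF) (Groth.L18.VeryAmpleOver.isRelAmple_twistOver n Y)
    (Groth.L17.Strat.isInvertible_twistOver n Y 1)
  obtain ⟨N, hN⟩ := (Set.finite_range m).bddAbove
  refine ⟨N, fun k hk q hq => ?_⟩
  have hz : IsZero ((Coh.Rpush (KRR.pr n Y) q).obj (CohB1.tensorMod F (CohB1.tensorPow (Twist.twistOver n Y 1) k))) :=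
    Groth.L21.Mod.isZero_of_restrict (fun i : t => (hW i.1).fromSpec) (fun z => by
      obtain ⟨z', hz', hzz⟩ := Set.mem_iUnion₂.1 (ht (Set.mem_univ z))
      exact ⟨⟨z', hz'⟩, (hW z').opensRange_fromSpec.ge hzz⟩) _ fun i => hm i k ((hN ⟨i, rfl⟩).trans hk) q hq
  obtain ⟨e⟩ := Groth.L17.nonempty_toAb_Rpush_iso (KRR.pr n Y)
    (CohB1.tensorMod F (CohB1.tensorPow (Twist.twistOver n Y 1) k)) q
  obtain ⟨p⟩ := Groth.L12.PushFree.nonempty_OT_one_pow n Y k
  exact (isVan_vpush (KRR.pr n Y)).iso (tensorIso (Iso.refl F) p) q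
    (((Groth.L17.toAbShF Y).map_isZero hz).of_iso e.symm)

theorem exists_r {F : (KRR.PY n Y).Modules} (hF : FlatMod.IsFinLocFree F) : ∃ m, R m F := by
  obtain ⟨N, hN⟩ := exists_vt hF
  refine ⟨N + n, hF, fun i hi => ?_⟩
  rcases Nat.lt_or_ge n i with h | h
  · exact vt_of_lt hF h _
  · rw [show ((N + n : ℕ) : ℤ) - i = ((N + n - i : ℕ) : ℤ) by omega]
    exact hN _ (by omega) i hi

open Classical in
/-- The inverse on bundles. -/
def inv (F : (KRR.PY n Y).Modules) : KZero.K0sub (RegP n Y) :=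
  if h : FlatMod.IsFinLocFree F then psi (exists_r h).choose F else 0

theorem inv_eq {m : ℕ} {F : (KRR.PY n Y).Modules} (h : R m F) : inv F = psi m F := by
  rw [inv, dif_pos h.1]
  have h' := (exists_r h.1).choose_spec
  rcases Nat.le_total (exists_r h.1).choose m with hle | hle
  · obtain ⟨k, hk⟩ := Nat.exists_eq_add_of_le hle
    have := psi_add_nat h' k
    rw [← hk] at this
    exact this.symm
  · obtain ⟨k, hk⟩ := Nat.exists_eq_add_of_le hle
    have := psi_add_nat h k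
    rw [← hk] at this
    exact this

theorem inv_shortExact (S : ShortComplex (KRR.PY n Y).Modules) (hS : S.ShortExact)
    (h₁ : KRR.vbP _ S.X₁) (h₂ : KRR.vbP _ S.X₂) (h₃ : KRR.vbP _ S.X₃) :
    inv S.X₂ = inv S.X₁ + inv S.X₃ := by
  obtain ⟨a, ha⟩ := exists_r h₁
  obtain ⟨b, hb⟩ := exists_r h₂
  obtain ⟨c, hc⟩ := exists_r h₃
  have ha' := ha.succ (b + c)
  have hb' : R (a + (b + c)) S.X₂ := by
    rw [show a + (b + c) = b + (a + c) by omega]; exact hb.succ _
  have hc' : R (a + (b + c)) S.X₃ := by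
    rw [show a + (b + c) = c + (a + b) by omega]; exact hc.succ _
  rw [inv_eq ha', inv_eq hb', inv_eq hc']
  exact psi_shortExact _ hS ha' hb' hc'

variable (n Y) in
/-- The inverse homomorphism. -/
def invHom : KZero.K0sub (KRR.vbP (KRR.PY n Y)) →+ KZero.K0sub (RegP n Y) :=
  Groth.L29.KSub.lift inv inv_shortExact

theorem mapSub_clSub (h : ∀ M, RegP n Y M → KRR.vbP (KRR.PY n Y) M) {F : (KRR.PY n Y).Modules} (hF : RegP n Y F) :
    SGA6.mapSub (𝟭 (KRR.PY n Y).Modules) (RegP n Y) (KRR.vbP (KRR.PY n Y)) h (KZero.clSub (RegP n Y) F) =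
      KZero.clSub (KRR.vbP (KRR.PY n Y)) F := by
  rw [Groth.L29.KSub.clSub_of _ hF, Groth.L29.KSub.clSub_of _ (h _ hF)]
  simp only [SGA6.mapSub, QuotientAddGroup.map_mk, FreeAbelianGroup.map_of_apply]
  rfl

theorem map_psi (h : ∀ M, RegP n Y M → KRR.vbP (KRR.PY n Y) M) : ∀ (m : ℕ) {F : (KRR.PY n Y).Modules}, R m F →
    SGA6.mapSub (𝟭 (KRR.PY n Y).Modules) (RegP n Y) (KRR.vbP (KRR.PY n Y)) h (psi m F) =
      KZero.clSub (KRR.vbP (KRR.PY n Y)) F
  | 0, F, hF => mapSub_clSub h (r_zero_iff.1 hF)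
  | m + 1, F, hF => by
    rw [psi, map_T, T_congr (h' := KZero.clSub (KRR.vbP (KRR.PY n Y))) F fun k hk => map_psi h m (hF.tw k hk)]
    exact (cl_eq_T isSumClosed_vb hF.1 (fun k => isFinLocFree_tw _ hF.1) (vb_kosG hF.1) (vb_Z hF.1)).symm

theorem bijective_mapSub (h : ∀ M, RegP n Y M → KRR.vbP (KRR.PY n Y) M) :
    Function.Bijective (SGA6.mapSub (𝟭 (KRR.PY n Y).Modules) (RegP n Y) (KRR.vbP (KRR.PY n Y)) h) := by
  refine Function.bijective_iff_has_inverse.2 ⟨invHom n Y, fun x => ?_, fun x => ?_⟩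
  · refine DFunLike.congr_fun (Groth.L29.KSub.hom_ext (P := RegP n Y)
      (φ := (invHom n Y).comp (SGA6.mapSub (𝟭 (KRR.PY n Y).Modules) (RegP n Y) (KRR.vbP (KRR.PY n Y)) h))
      (ψ := AddMonoidHom.id _) fun F hF => ?_) x
    rw [AddMonoidHom.comp_apply, mapSub_clSub h hF, invHom, Groth.L29.KSub.lift_clSub _ _ (h _ hF)]
    exact inv_eq (m := 0) (r_zero_iff.2 hF)
  · refine DFunLike.congr_fun (Groth.L29.KSub.hom_ext (P := KRR.vbP (KRR.PY n Y))
      (φ := (SGA6.mapSub (𝟭 (KRR.PY n Y).Modules) (RegP n Y) (KRR.vbP (KRR.PY n Y)) h).comp (invHom n Y))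
      (ψ := AddMonoidHom.id _) fun F hF => ?_) x
    obtain ⟨m, hm⟩ := exists_r hF
    rw [AddMonoidHom.comp_apply, invHom, Groth.L29.KSub.lift_clSub _ _ hF, inv_eq hm]
    exact map_psi h m hm

end Noeth

end Groth.L12.KReg
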