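import Groth.Agent.L22.Reg.ChaseGen
import Groth.Agent.L29.K.Sub
import Groth.Prelude.Def_KRR

/-!
# The class of an exact augmented Koszul complex in `K₀`
-/

set_option autoImplicit false
set_option backward.isDefEq.respectTransparency false
set_option linter.style.haveILetI false
universe u

open CategoryTheory CategoryTheory.Limits AlgebraicGeometry
open scoped ZeroObject

noncomputable section

namespace Groth.L12.KosClass

open Groth.L22.Reg
open Groth.L00.Tensor (tensorRightF tensorIso tensorPowOne tensorAssoc)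

variable {X : Scheme.{u}}

/-- `M` is a finite sum of `N` copies of `A`. -/
inductive Copies (A : X.Modules) : ℕ → X.Modules → Prop
  | zero {M : X.Modules} (h : IsZero M) : Copies A 0 M
  | one {M : X.Modules} (e : M ≅ A) : Copies A 1 M
  | add {a b : ℕ} {M M' N : X.Modules} (h : Copies A a M) (h' : Copies A b M') (e : N ≅ M ⊞ M') :
      Copies A (a + b) N

theorem Copies.congr {A A' : X.Modules} (e : A ≅ A') {N : ℕ} {M : X.Modules} (h : Copies A N M) :
    Copies A' N M := by
  induction h with
  | zero h => exact .zero h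
  | one i => exact .one (i ≪≫ e)
  | add _ _ i h h' => exact .add h h' i

theorem Copies.tensorRight {A : X.Modules} (L : X.Modules) {N : ℕ} {M : X.Modules} (h : Copies A N M) :
    Copies ((tensorRightF L).obj A) N ((tensorRightF L).obj M) := by
  induction h with
  | zero h => exact .zero ((tensorRightF L).map_isZero h)
  | one i => exact .one ((tensorRightF L).mapIso i)
  | add _ _ i h h' => exact .add h h' ((tensorRightF L).mapIso i ≪≫ (tensorBiprod L _ _).symm)

/-- The terms of a Koszul complex are sums of twists. -/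
theorem copies_kos {F L : X.Modules} : ∀ (l : List (L ⟶ Coh.structureModule X)) (j : ℕ),
    Copies (CohB1.tensorMod F (CohB1.tensorPow L (j + 1))) (l.length.choose (j + 1)) ((kos F l).obj j)
  | [], j => .zero (isZero_zero _)
  | σ :: l, 0 => by
    rw [List.length_cons, zero_add, Nat.choose_one_right, Nat.add_comm]
    refine Copies.add (.one (tensorIso (Iso.refl F) (tensorPowOne L)).symm) ?_ (Iso.refl _)
    have := copies_kos (F := F) l 0
    rwa [zero_add, Nat.choose_one_right] at this
  | σ :: l, j + 1 => by
    rw [List.length_cons, Nat.choose_succ_succ]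
    exact Copies.add (((copies_kos (F := F) l j).tensorRight L).congr (tensorAssoc F _ L))
      (copies_kos (F := F) l (j + 1)) (Iso.refl _)

/-- A property of modules closed under isomorphisms and finite sums. -/
structure IsSumClosed (P : ObjectProperty X.Modules) : Prop where
  iso : ∀ {A B : X.Modules}, (A ≅ B) → P A → P B
  zero : ∀ {A : X.Modules}, IsZero A → P A
  biprod : ∀ {A B : X.Modules}, P A → P B → P (A ⊞ B)

variable {P : ObjectProperty X.Modules} (hP : IsSumClosed P)

include hP in
theorem IsSumClosed.cl_iso {A B : X.Modules} (e : A ≅ B) (h : P A) : KZero.clSub P A = KZero.clSub P B :=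
  haveI : P.IsClosedUnderIsomorphisms := ⟨hP.iso⟩
  Groth.L29.KSub.clSub_iso P e (isZero_zero _) (hP.zero (isZero_zero _)) h

include hP in
theorem Copies.mem_and_cl {A : X.Modules} (hA : P A) {N : ℕ} {M : X.Modules} (h : Copies A N M) :
    P M ∧ KZero.clSub P M = N • KZero.clSub P A := by
  induction h with
  | zero h => exact ⟨hP.zero h, by rw [Groth.L29.KSub.clSub_zero P h (hP.zero h), zero_smul]⟩
  | one e => exact ⟨hP.iso e.symm hA, by rw [one_smul, hP.cl_iso e (hP.iso e.symm hA)]⟩
  | add _ _ e ih ih' =>
    have hb := hP.biprod ih.1 ih'.1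
    refine ⟨hP.iso e.symm hb, ?_⟩
    rw [hP.cl_iso e (hP.iso e.symm hb), Groth.L29.KSub.clSub_biprod P ih.1 ih'.1 hb, ih.2, ih'.2, add_smul]

include hP in
/-- The class of the end of an exact augmented complex is the alternating sum of the classes. -/
theorem cl_aug {F : X.Modules} {C : Aug X F} (h : ∀ x, C.ExactAtPt x) {N : ℕ}
    (hN : ∀ j, N ≤ j → IsZero (C.obj j)) (hC : ∀ j, P (C.obj j)) (hZ : ∀ j, P (C.Z j)) (hF : P F) :
    KZero.clSub P F = ∑ j ∈ Finset.range N, (-1 : ℤ) ^ j • KZero.clSub P (C.obj j) := by
  have key : ∀ i j : ℕ, N ≤ j + i + 1 →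
      KZero.clSub P (C.Z j) = ∑ k ∈ Finset.range i, (-1 : ℤ) ^ k • KZero.clSub P (C.obj (j + 1 + k)) := by
    intro i
    induction i with
    | zero =>
      intro j hj
      have h1 := Groth.L29.KSub.clSub_shortExact P (zSC_shortExact h j) (hZ (j + 1)) (hC (j + 1)) (hZ j)
      simp only [Aug.zSC] at h1
      have hz : IsZero (C.obj (j + 1)) := hN _ (by omega)
      rw [Groth.L29.KSub.clSub_zero P hz (hC _), Groth.L29.KSub.clSub_zero P (isZero_Z hz) (hZ _), zero_add] at h1
      rw [← h1, Finset.sum_range_zero]
    | succ i ih =>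
      intro j hj
      have h1 := Groth.L29.KSub.clSub_shortExact P (zSC_shortExact h j) (hZ (j + 1)) (hC (j + 1)) (hZ j)
      simp only [Aug.zSC] at h1
      rw [Finset.sum_range_succ', pow_zero, one_smul, eq_sub_of_add_eq' h1.symm, ih (j + 1) (by omega), add_zero]
      rw [sub_eq_add_neg, add_comm, ← Finset.sum_neg_distrib]
      refine congrArg (· + _) (Finset.sum_congr rfl fun k _ => ?_)
      rw [pow_succ, mul_neg, mul_one, neg_smul, show j + 1 + 1 + k = j + 1 + (k + 1) by omega]
  have h0 := Groth.L29.KSub.clSub_shortExact P (zSC₀_shortExact h) (hZ 0) (hC 0) hF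
  simp only [Aug.zSC₀] at h0
  rcases N with _ | N
  · have hz : IsZero (C.obj 0) := hN 0 le_rfl
    rw [Groth.L29.KSub.clSub_zero P hz (hC 0), Groth.L29.KSub.clSub_zero P (isZero_Z hz) (hZ 0), zero_add] at h0
    rw [← h0, Finset.sum_range_zero]
  · rw [Finset.sum_range_succ', pow_zero, one_smul, eq_sub_of_add_eq' h0.symm, key N 0 (by omega)]
    rw [sub_eq_add_neg, add_comm, ← Finset.sum_neg_distrib]
    refine congrArg (· + _) (Finset.sum_congr rfl fun k _ => ?_)
    rw [pow_succ, mul_neg, mul_one, neg_smul, show 0 + 1 + k = k + 1 by omega]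

end Groth.L12.KosClass
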